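import Groth.Agent.H1Branch.LocalHom
import Groth.Agent.S9236
import Groth.Agent.H02CA.SmoothRegular
import Mathlib.RingTheory.Unramified.LocalStructure

/-!
# Unramified algebras over geometrically unibranch domains
-/

set_option autoImplicit false
set_option linter.style.haveILetI false
universe u

namespace Groth.Agent.H1Branch

open TensorProduct IsLocalRing

/-- The local rings of an etale algebra over a geometrically unibranch domain are domains. -/
theorem isDomain_atPrime_of_etale {A C : Type u} [CommRing A] [IsDomain A] [CommRing C] [Algebra A C]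
    [Algebra.Etale A C] (Q : Ideal C) [Q.IsPrime] (p : Ideal A) [p.IsPrime] [Q.LiesOver p]
    (hA : CAlg2.IsGeomUnibranch (Localization.AtPrime p)) : IsDomain (Localization.AtPrime Q) := by
  letI := Localization.AtPrime.algebraOfLiesOver p Q
  haveI : IsLocalHom (algebraMap (Localization.AtPrime p) (Localization.AtPrime Q)) :=
    Localization.isLocalHom_localRingHom p Q _ _
  obtain ⟨S', _, _, _, _, _, M, _⟩ := exists_smooth_presentation (R := A) Q p
  have h1 : Brnch.numGeomBranches (Localization.AtPrime Q) = 1 := by
    rw [← numGeomBranches_eq (A := Localization.AtPrime p) M]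
    exact (Groth.Agent.S9236.result _).mpr hA
  have h2 : IsDomain (CAlg2.red (Localization.AtPrime Q)) := ((Groth.Agent.S9236.result _).mp h1).1.1
  haveI : IsReduced C := H02CA.isReduced_of_smooth A C
  haveI : IsReduced (Localization.AtPrime Q) := inferInstance
  have hinj : Function.Injective (Ideal.Quotient.mk (nilradical (Localization.AtPrime Q))) := by
    rw [RingHom.injective_iff_ker_eq_bot, Ideal.mk_ker, ← Ideal.zero_eq_bot, nilradical_eq_zero]
  haveI := h2
  exact Function.Injective.isDomain _ hinj

/-- The torsion at a prime of an etale algebra over a domain is killed by one element. -/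
theorem exists_notMem_mul_eq_zero {A C : Type u} [CommRing A] [IsDomain A] [CommRing C] [Algebra A C]
    [Algebra.Etale A C] (Q : Ideal C) [Q.IsPrime] :
    ∃ g ∉ Q, ∀ x : C, algebraMap C (Localization.AtPrime Q) x = 0 → g * x = 0 := by
  classical
  let K := FractionRing A
  let D := K ⊗[A] C
  let i : C →ₐ[A] D := Algebra.TensorProduct.includeRight
  have hi : Function.Injective i :=
    Algebra.TensorProduct.includeRight_injective (IsFractionRing.injective A K)
  haveI : IsNoetherianRing D := Algebra.FiniteType.isNoetherianRing K D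
  let P0 := RingHom.ker (algebraMap C (Localization.AtPrime Q))
  obtain ⟨t, hts, htspan⟩ := (Submodule.fg_span_iff_fg_span_finset_subset (R := D) (i '' (P0 : Set C))).mp
    (IsNoetherian.noetherian _)
  have hpick : ∀ y ∈ t, ∃ s : C, s ∉ Q ∧ i s * y = 0 := by
    intro y hy
    obtain ⟨x, hx, rfl⟩ := hts hy
    obtain ⟨⟨s, hs⟩, hsx⟩ := (IsLocalization.map_eq_zero_iff Q.primeCompl _ x).mp hx
    exact ⟨s, hs, by rw [← map_mul, hsx, map_zero]⟩
  choose s hs hs0 using hpick
  refine ⟨∏ y ∈ t.attach, s y y.2, fun h => ?_, fun x hx => hi ?_⟩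
  · obtain ⟨y, -, hy⟩ := (Ideal.IsPrime.prod_mem_iff).mp h
    exact hs y y.2 hy
  · rw [map_zero, map_mul]
    have hx' : i x ∈ Submodule.span D (i '' (P0 : Set C)) := Submodule.subset_span ⟨x, hx, rfl⟩
    rw [htspan] at hx'
    generalize i x = z at hx' ⊢
    induction hx' using Submodule.span_induction with
    | mem y hy =>
      obtain ⟨c, hc⟩ := Finset.dvd_prod_of_mem (fun y : {y // y ∈ t} => s y y.2) (Finset.mem_attach t ⟨y, hy⟩)
      rw [hc, map_mul, mul_right_comm, hs0 y hy, zero_mul]
    | zero => rw [mul_zero]
    | add a b _ _ ha hb => rw [mul_add, ha, hb, add_zero]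
    | smul c a _ ha => rw [smul_eq_mul, mul_left_comm, ha, mul_zero]

/-- An unramified algebra of finite type over a geometrically unibranch domain is etale near a point where
the local homomorphism is injective. -/
theorem exists_etale_away {A B : Type u} [CommRing A] [IsDomain A] [CommRing B] [Algebra A B]
    (q : Ideal B) [q.IsPrime] (p : Ideal A) [p.IsPrime] [q.LiesOver p]
    (hA : CAlg2.IsGeomUnibranch (Localization.AtPrime p)) [Algebra.FiniteType A B] [Algebra.IsUnramifiedAt A q]
    (hinj : ∀ a : A, algebraMap A (Localization.AtPrime q) a = 0 → a = 0) :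
    ∃ g : B, g ∉ q ∧ Algebra.Etale A (Localization.Away g) := by
  obtain ⟨f, hf, P, φ, hφ⟩ := Algebra.IsUnramifiedAt.exists_hasStandardEtaleSurjectionOn (R := A) q
  let Bf := Localization.Away f
  have hu : ∀ y : Submonoid.powers f, IsUnit (algebraMap B (Localization.AtPrime q) y) := by
    rintro ⟨_, k, rfl⟩
    rw [map_pow]
    exact (IsLocalization.map_units (Localization.AtPrime q) (⟨f, hf⟩ : q.primeCompl)).pow k
  let l : Bf →ₐ[A] Localization.AtPrime q :=
    { (IsLocalization.lift hu : Bf →+* Localization.AtPrime q) with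
      commutes' := fun a => by
        show IsLocalization.lift hu (algebraMap A Bf a) = _
        rw [IsScalarTower.algebraMap_apply A B Bf, IsLocalization.lift_eq, ← IsScalarTower.algebraMap_apply] }
  let χ : P.Ring →ₐ[A] Localization.AtPrime q := l.comp φ
  let Q : Ideal P.Ring := (maximalIdeal (Localization.AtPrime q)).comap χ.toRingHom
  haveI : Q.IsPrime := Ideal.comap_isPrime _ _
  haveI : Q.LiesOver p := ⟨by
    rw [q.over_def p, Ideal.under_def, Ideal.under_def]
    show q.comap (algebraMap A B) = ((maximalIdeal _).comap χ.toRingHom).comap (algebraMap A P.Ring)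
    rw [Ideal.comap_comap, show χ.toRingHom.comp (algebraMap A P.Ring) =
      (algebraMap B (Localization.AtPrime q)).comp (algebraMap A B) from RingHom.ext fun a => by
        rw [RingHom.comp_apply, RingHom.comp_apply, ← IsScalarTower.algebraMap_apply]
        exact χ.commutes a,
      ← Ideal.comap_comap]
    exact congrArg (Ideal.comap (algebraMap A B)) Localization.AtPrime.comap_maximalIdeal.symm⟩
  haveI := isDomain_atPrime_of_etale Q p hA
  have hu' : ∀ y : Q.primeCompl, IsUnit (χ.toRingHom y) := fun y => by
    have hy : (y : P.Ring) ∉ Q := y.2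
    rw [Ideal.mem_comap, mem_maximalIdeal, mem_nonunits_iff, not_not] at hy
    exact hy
  let χ' : Localization.AtPrime Q →+* Localization.AtPrime q := IsLocalization.lift hu'
  obtain ⟨g₀, hg₀, hkill⟩ := exists_notMem_mul_eq_zero (A := A) Q
  have hJ : ∀ j : P.Ring, φ j = 0 → g₀ * j = 0 := by
    intro j hj
    refine hkill j (by_contra fun hne => ?_)
    haveI : IsScalarTower A (FractionRing A) (FractionRing A ⊗[A] P.Ring) := inferInstance
    haveI : Module.Finite (FractionRing A) (FractionRing A ⊗[A] P.Ring) :=
      Algebra.FormallyUnramified.finite_of_free _ _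
    have halg : IsAlgebraic A j := by
      rw [← isAlgebraic_algHom_iff (Algebra.TensorProduct.includeRight : P.Ring →ₐ[A] FractionRing A ⊗[A] P.Ring)
        (Algebra.TensorProduct.includeRight_injective (IsFractionRing.injective A (FractionRing A)))]
      exact (IsFractionRing.isAlgebraic_iff A (FractionRing A) _).mpr
        (IsIntegral.of_finite (FractionRing A) _).isAlgebraic
    obtain ⟨r, hr, hdvd⟩ := (halg.algHom (IsScalarTower.toAlgHom A P.Ring (Localization.AtPrime Q))).exists_nonzero_dvd
      (mem_nonZeroDivisors_of_ne_zero hne)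
    have h0 : χ' (algebraMap A (Localization.AtPrime Q) r) = 0 := by
      obtain ⟨c, hc⟩ := hdvd
      rw [hc, map_mul]
      show χ' (algebraMap P.Ring _ j) * _ = 0
      rw [IsLocalization.lift_eq]
      show l (φ j) * _ = 0
      rw [hj, map_zero, zero_mul]
    rw [IsScalarTower.algebraMap_apply A P.Ring (Localization.AtPrime Q), IsLocalization.lift_eq] at h0
    exact hr (hinj r ((χ.commutes r).symm.trans h0))
  obtain ⟨k, b, hb⟩ := IsLocalization.Away.surj f (φ g₀)
  have hbq : f * b ∉ q := fun h => by
    rcases Ideal.IsPrime.mem_or_mem ‹q.IsPrime› h with h | h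
    · exact hf h
    · refine hg₀ ?_
      have h2 : l (φ g₀ * algebraMap B Bf f ^ k) ∈ maximalIdeal (Localization.AtPrime q) := by
        rw [hb]
        show IsLocalization.lift hu (algebraMap B Bf b) ∈ _
        rw [IsLocalization.lift_eq, IsLocalization.AtPrime.to_map_mem_maximal_iff _ q]
        exact h
      rw [map_mul, Ideal.mul_unit_mem_iff_mem _ (((IsLocalization.Away.algebraMap_isUnit f).pow k).map l)] at h2
      exact h2
  refine ⟨f * b, hbq, ?_⟩
  let T := Localization.Away (algebraMap B Bf b)
  haveI : IsLocalization.Away (f * b) T := IsLocalization.Away.mul' Bf T f b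
  haveI : IsLocalization.Away (φ g₀) T := IsLocalization.Away.of_associated (r := algebraMap B Bf b) (by
    rw [← hb]
    exact (associated_mul_unit_left _ _ ((IsLocalization.Away.algebraMap_isUnit f).pow k)))
  let ψ : Localization.Away g₀ →ₐ[A] T := IsLocalization.Away.mapₐ (Localization.Away g₀) T φ g₀
  have hψi : Function.Injective ψ := (injective_iff_map_eq_zero ψ).mpr fun z hz => by
    obtain ⟨c, ⟨s, hs⟩, rfl⟩ := IsLocalization.exists_mk'_eq (Submonoid.powers g₀) z
    have h1 : ψ (algebraMap P.Ring (Localization.Away g₀) c) = 0 := by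
      rw [← IsLocalization.mk'_spec (Localization.Away g₀) c ⟨s, hs⟩, map_mul, hz, zero_mul]
    have h2 : algebraMap Bf T (φ c) = algebraMap Bf T 0 := by
      rw [map_zero, ← h1, IsLocalization.Away.mapₐ_apply]
      simp [IsLocalization.Away.map, IsLocalization.map_eq]
      rfl
    obtain ⟨n, hn⟩ := IsLocalization.Away.exists_of_eq (φ g₀) h2
    rw [mul_zero] at hn
    rw [IsLocalization.mk'_eq_zero_iff]
    refine ⟨⟨g₀ ^ (n + 1), n + 1, rfl⟩, ?_⟩
    show g₀ ^ (n + 1) * c = 0
    rw [pow_succ', mul_assoc]
    exact hJ _ (by rw [map_mul, map_pow]; exact hn)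
  let e₁ : Localization.Away g₀ ≃ₐ[A] T :=
    AlgEquiv.ofBijective ψ ⟨hψi, IsLocalization.Away.mapₐ_surjective_of_surjective g₀ hφ⟩
  let e₂ : T ≃ₐ[A] Localization.Away (f * b) :=
    (IsLocalization.algEquiv (Submonoid.powers (f * b)) T (Localization.Away (f * b))).restrictScalars A
  exact Algebra.Etale.of_equiv (e₁.trans e₂)

end Groth.Agent.H1Branch
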