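import Groth.Agent.H1Branch.Unibranch
import Mathlib.RingTheory.Localization.LocalizationLocalization

/-!
# The local homomorphism at a prime of a smooth algebra
-/

set_option autoImplicit false
set_option linter.style.haveILetI false
universe u

namespace Groth.Agent.H1Branch

open TensorProduct IsLocalRing

theorem smooth_localization {R S : Type u} [CommRing R] [CommRing S] [Algebra R S] [Algebra.Smooth R S]
    (p : Ideal R) [p.IsPrime] :
    Algebra.Smooth (Localization.AtPrime p) (Localization (Algebra.algebraMapSubmonoid S p.primeCompl)) :=
  Algebra.Smooth.of_equiv (Localization.tensorRightAlgEquiv p.primeCompl S)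

/-- Data presenting `S_q` as a localization of a smooth `R_p`-algebra. -/
theorem exists_smooth_presentation {R S : Type u} [CommRing R] [CommRing S] [Algebra R S] [Algebra.Smooth R S]
    (q : Ideal S) [q.IsPrime] (p : Ideal R) [p.IsPrime] [q.LiesOver p] :
    letI := Localization.AtPrime.algebraOfLiesOver p q
    ∃ (S' : Type u) (_ : CommRing S') (_ : Algebra (Localization.AtPrime p) S')
      (_ : Algebra.Smooth (Localization.AtPrime p) S') (_ : Algebra S' (Localization.AtPrime q))
      (_ : IsScalarTower (Localization.AtPrime p) S' (Localization.AtPrime q)) (M : Submonoid S'),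
      IsLocalization M (Localization.AtPrime q) := by
  let alg := Localization.AtPrime.algebraOfLiesOver p q
  letI := alg
  let N := Algebra.algebraMapSubmonoid S p.primeCompl
  let S' := Localization N
  haveI := smooth_localization (S := S) p
  have hle : N ≤ q.primeCompl := by
    rintro _ ⟨a, ha, rfl⟩ h
    exact ha (by rw [q.over_def p]; exact h)
  letI : Algebra S' (Localization.AtPrime q) := IsLocalization.localizationAlgebraOfSubmonoidLe
    S' (Localization.AtPrime q) N q.primeCompl hle
  haveI : IsScalarTower S S' (Localization.AtPrime q) :=
    IsLocalization.localization_isScalarTower_of_submonoid_le S' (Localization.AtPrime q) N q.primeCompl hle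
  haveI : IsScalarTower (Localization.AtPrime p) S' (Localization.AtPrime q) := by
    refine IsScalarTower.of_algebraMap_eq' (IsLocalization.ringHom_ext p.primeCompl ?_)
    rw [RingHom.comp_assoc, ← IsScalarTower.algebraMap_eq R (Localization.AtPrime p) S',
      IsScalarTower.algebraMap_eq R S S', ← RingHom.comp_assoc,
      ← IsScalarTower.algebraMap_eq S S' (Localization.AtPrime q),
      ← IsScalarTower.algebraMap_eq R (Localization.AtPrime p) (Localization.AtPrime q),
      ← IsScalarTower.algebraMap_eq R S (Localization.AtPrime q)]
  exact ⟨S', inferInstance, inferInstance, inferInstance, inferInstance, inferInstance,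
    q.primeCompl.map (algebraMap S S'),
    IsLocalization.isLocalization_of_submonoid_le S' (Localization.AtPrime q) N q.primeCompl hle⟩

end Groth.Agent.H1Branch
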