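import Groth.Agent.H05EGA4.NormalTensor

/-!
# Integral closedness of normal rings in localisations at non zero divisors
-/

set_option autoImplicit false
universe u

namespace Groth.Agent.H1Branch

open Polynomial

/-- A reduced Artinian ring is normal. -/
theorem isNormalRing_of_isArtinianRing (Q : Type u) [CommRing Q] [IsArtinianRing Q] [IsReduced Q] :
    EGA4.IsNormalRing Q := by
  intro P _
  haveI : IsArtinianRing (Localization.AtPrime P) := inferInstance
  have hF : IsField (Localization.AtPrime P) := IsArtinianRing.isField_of_isReduced_of_isLocalRing _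
  letI := hF.toField
  exact ⟨inferInstance, inferInstance⟩

/-- A normal ring is integrally closed in every injective ring map which only inverts non zero divisors. -/
theorem mem_range_of_isIntegral {D E : Type u} [CommRing D] [CommRing E] [Algebra D E]
    (hD : EGA4.IsNormalRing D) (hinj : Function.Injective (algebraMap D E)) (x : E)
    (hfrac : ∃ b t : D, IsUnit (algebraMap D E t) ∧ algebraMap D E t * x = algebraMap D E b)
    (hx : IsIntegral D x) : x ∈ Set.range (algebraMap D E) := by
  obtain ⟨b, t, htu, hbt⟩ := hfrac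
  have ht : t ∈ nonZeroDivisors D := mem_nonZeroDivisors_iff_right.mpr fun d hd =>
    hinj (by rw [map_zero]; exact htu.mul_left_eq_zero.mp (by rw [← map_mul, hd, map_zero]))
  obtain ⟨f, hf, hfx⟩ := hx
  have hroot : (f.scaleRoots t).eval b = 0 := hinj (by
    rw [map_zero, ← Polynomial.eval₂_at_apply, ← hbt, Polynomial.scaleRoots_eval₂_mul, hfx, mul_zero])
  let J : Ideal D :=
    { carrier := {d | t ∣ d * b}
      zero_mem' := by simp
      add_mem' := fun {p q} hp hq => by simpa [add_mul] using dvd_add hp hq
      smul_mem' := fun c p hp => by simpa [mul_assoc] using hp.mul_left c }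
  by_cases hJ : J = ⊤
  · have h1 : t ∣ 1 * b := (Ideal.eq_top_iff_one J).mp hJ
    rw [one_mul] at h1
    obtain ⟨e, he⟩ := h1
    exact ⟨e, htu.mul_left_cancel (by rw [hbt, he, map_mul])⟩
  · exfalso
    obtain ⟨P, hP, hle⟩ := Ideal.exists_le_maximal J hJ
    haveI := hP.isPrime
    obtain ⟨h1, h2⟩ := hD P
    haveI := h1
    haveI := h2
    let T := Localization.AtPrime P
    let K := FractionRing T
    have ht0 : algebraMap D T t ≠ 0 := fun h0 => by
      obtain ⟨⟨u, hu⟩, hut⟩ := (IsLocalization.map_eq_zero_iff P.primeCompl T t).mp h0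
      exact hu ((mem_nonZeroDivisors_iff_right.mp ht u hut) ▸ P.zero_mem)
    have htK : algebraMap T K (algebraMap D T t) ≠ 0 := fun h0 =>
      ht0 (IsFractionRing.injective T K (by rw [h0, map_zero]))
    let φ : D →+* K := (algebraMap T K).comp (algebraMap D T)
    have hy : IsIntegral T (φ b / φ t) := by
      refine ⟨f.map (algebraMap D T), hf.map _, ?_⟩
      have h3 : (f.scaleRoots t).eval₂ φ (φ b) = 0 := by
        rw [Polynomial.eval₂_at_apply, hroot, map_zero]
      rw [show φ b = φ t * (φ b / φ t) from (mul_div_cancel₀ (φ b) htK).symm, Polynomial.scaleRoots_eval₂_mul] at h3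
      rw [Polynomial.eval₂_map]
      exact (mul_eq_zero.mp h3).resolve_left (pow_ne_zero _ htK)
    obtain ⟨y, hy'⟩ := IsIntegrallyClosed.isIntegral_iff.mp hy
    obtain ⟨c, s, rfl⟩ := IsLocalization.exists_mk'_eq P.primeCompl y
    replace hy' := (eq_div_iff (show φ t ≠ 0 from htK)).mp hy'
    have h4 : algebraMap T K (IsLocalization.mk' T c s * algebraMap D T t) = algebraMap T K (algebraMap D T b) := by
      rw [map_mul]; exact hy'
    have h5 := IsFractionRing.injective T K h4
    rw [← IsLocalization.mk'_one (M := P.primeCompl) T t, ← IsLocalization.mk'_one (M := P.primeCompl) T b, ← IsLocalization.mk'_mul,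
      IsLocalization.mk'_eq_iff_eq] at h5
    obtain ⟨⟨u, hu⟩, h6⟩ := (IsLocalization.eq_iff_exists P.primeCompl T).mp h5
    simp only [Submonoid.coe_mul, Submonoid.coe_one, mul_one, one_mul] at h6
    have hmem : u * (s : D) ∈ J := ⟨u * c, by linear_combination -h6⟩
    exact (mul_mem (s := P.primeCompl) hu s.2 : u * (s : D) ∈ P.primeCompl) (hle hmem)

end Groth.Agent.H1Branch
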