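import Groth.Agent.H1Branch.NormalLoc
import Groth.Agent.H9Hens.BranchCount
import Groth.Agent.S1182

/-!
# Branches under essentially smooth local homomorphisms
-/

set_option autoImplicit false
set_option linter.style.haveILetI false
universe u

namespace Groth.Agent.H1Branch

open TensorProduct IsLocalRing

section field

/-- Homomorphisms of an integral algebra into an algebraically closed field land in any algebraically closed subfield. -/
theorem nonempty_algHom_equiv {A P K L : Type u} [CommRing A] [CommRing P] [Algebra A P] [Algebra.IsIntegral A P]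
    [Field K] [IsAlgClosed K] [Algebra A K] [Field L] [Algebra A L] (j : K →ₐ[A] L) :
    Nonempty ((P →ₐ[A] K) ≃ (P →ₐ[A] L)) := by
  refine ⟨Equiv.ofBijective j.comp ⟨fun f g h => AlgHom.ext fun x => j.injective (DFunLike.congr_fun h x),
    fun f => ?_⟩⟩
  have hmem : ∀ x, f x ∈ j.range := fun x => by
    obtain ⟨p, hp, hpx⟩ := (Algebra.IsIntegral.isIntegral (R := A) x).map f
    have hs : (p.map (algebraMap A K)).Splits := IsAlgClosed.splits _
    have h0 : ((p.map (algebraMap A K)).map j.toRingHom).IsRoot (f x) := by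
      rw [Polynomial.map_map, Polynomial.IsRoot.def, Polynomial.eval_map]
      have : j.toRingHom.comp (algebraMap A K) = algebraMap A L := j.comp_algebraMap
      rw [this]
      exact hpx
    obtain ⟨y, hy⟩ := hs.mem_range_of_isRoot (hp.map _).ne_zero h0
    exact ⟨y, hy⟩
  refine ⟨(AlgEquiv.ofInjective j j.injective).symm.toAlgHom.comp (f.codRestrict j.range hmem),
    AlgHom.ext fun x => ?_⟩
  exact congrArg Subtype.val ((AlgEquiv.ofInjective j j.injective).apply_symm_apply ⟨f x, hmem x⟩)

/-- Transport of homomorphisms into algebraically closed fields. -/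
theorem nonempty_algHom_equiv_baseChange {A B P PB K L : Type u} [CommRing A] [CommRing B] [Algebra A B]
    [CommRing P] [Algebra A P] [Algebra.IsIntegral A P] [CommRing PB] [Algebra B PB] (e : B ⊗[A] P ≃ₐ[B] PB)
    [Field K] [IsAlgClosed K] [Field L] (fA : A →+* K) (fB : B →+* L) (j : K →+* L)
    (hj : j.comp fA = fB.comp (algebraMap A B)) :
    letI : Algebra A K := fA.toAlgebra
    letI : Algebra B L := fB.toAlgebra
    Nonempty ((P →ₐ[A] K) ≃ (PB →ₐ[B] L)) := by
  letI : Algebra A K := fA.toAlgebra
  letI : Algebra B L := fB.toAlgebra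
  letI : Algebra A L := (fB.comp (algebraMap A B)).toAlgebra
  haveI : IsScalarTower A B L := IsScalarTower.of_algebraMap_eq fun _ => rfl
  let j' : K →ₐ[A] L := { j with commutes' := fun a => RingHom.congr_fun hj a }
  obtain ⟨ej⟩ := nonempty_algHom_equiv (P := P) j'
  let lft : (P →ₐ[A] L) ≃ (B ⊗[A] P →ₐ[B] L) :=
    { toFun := fun f => Algebra.TensorProduct.lift (Algebra.ofId B _) f fun _ _ => Commute.all _ _
      invFun := fun F => (F.restrictScalars A).comp Algebra.TensorProduct.includeRight
      left_inv := fun f => by ext x; simp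
      right_inv := fun F => by ext x; simp }
  exact ⟨(ej.trans lft).trans (AlgEquiv.arrowCongr e AlgEquiv.refl)⟩

end field

variable {A S' B : Type u} [CommRing A] [CommRing S'] [CommRing B] [Algebra A S'] [Algebra.Smooth A S']
  [Algebra A B] [Algebra S' B] [IsScalarTower A S' B] (M : Submonoid S') [IsLocalization M B]

include M

theorem flat_of_smooth_localization : Module.Flat A B := by
  haveI : Module.Flat A S' := inferInstance
  haveI : Module.Flat S' B := IsLocalization.flat B M
  exact Module.Flat.trans A S' B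

variable {Q : Type u} [CommRing Q] [Algebra A Q] [IsArtinianRing Q] [IsReduced Q]

/-- `B ⊗ Q` is a normal Noetherian ring and the integral closure of `B` in it comes from `A`. -/
theorem normal_tensor :
    EGA4.IsNormalRing (B ⊗[A] Q) ∧ IsNoetherianRing (B ⊗[A] Q) ∧
      ∀ x : B ⊗[A] Q, IsIntegral B x →
        x ∈ (Algebra.TensorProduct.map (AlgHom.id B B) (integralClosure A Q).val).range := by
  letI : Algebra (S' ⊗[A] Q) (B ⊗[A] Q) :=
    (Algebra.TensorProduct.map (IsScalarTower.toAlgHom A S' B) (AlgHom.id A Q)).toAlgebra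
  haveI : IsScalarTower S' (S' ⊗[A] Q) (B ⊗[A] Q) := IsScalarTower.of_algebraMap_eq fun s => by
    simp [RingHom.algebraMap_toAlgebra]
  haveI := IsLocalization.tensorProduct_tensorProduct A Q M B
    (by ext q; simp [RingHom.algebraMap_toAlgebra])
  let M' := Algebra.algebraMapSubmonoid (S' ⊗[A] Q) M
  haveI : Algebra.Smooth Q (Q ⊗[A] S') := inferInstance
  let c := (Algebra.TensorProduct.comm A Q S').toRingEquiv
  have hn : EGA4.IsNormalRing (S' ⊗[A] Q) := H05EGA4.isNormalRing_of_ringEquiv c
    ((Groth.Agent.S1182.result Q (Q ⊗[A] S')).1 (isNormalRing_of_isArtinianRing Q))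
  haveI : IsNoetherianRing (Q ⊗[A] S') := Algebra.FiniteType.isNoetherianRing Q _
  haveI : IsNoetherianRing (S' ⊗[A] Q) := isNoetherianRing_of_surjective _ _ c.toRingHom c.surjective
  refine ⟨H05EGA4.isNormalRing_of_isLocalization M' hn, IsLocalization.isNoetherianRing M' _ inferInstance, ?_⟩
  intro x hx
  obtain ⟨⟨m, hm⟩, hmx⟩ := IsIntegral.exists_multiple_integral_of_isLocalization M x hx
  obtain ⟨⟨y, s, n, hn, rfl⟩, hys⟩ := IsLocalization.surj M' (m • x)
  change m • x * algebraMap _ _ (algebraMap S' (S' ⊗[A] Q) n) = algebraMap _ _ y at hys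
  rw [← IsScalarTower.algebraMap_apply] at hys
  have hyint : IsIntegral S' (algebraMap (S' ⊗[A] Q) (B ⊗[A] Q) y) := by
    rw [← hys]; exact hmx.mul isIntegral_algebraMap
  obtain ⟨p, hp, hpy⟩ := hyint
  have h0 : algebraMap (S' ⊗[A] Q) (B ⊗[A] Q) (Polynomial.aeval y p) = 0 := by
    rw [← Polynomial.aeval_algebraMap_apply]; exact hpy
  obtain ⟨⟨_, u, hu, rfl⟩, hu0⟩ := (IsLocalization.map_eq_zero_iff M' _ _).mp h0
  have hint : IsIntegral S' (algebraMap S' (S' ⊗[A] Q) u * y) := by
    rcases Nat.eq_zero_or_pos p.natDegree with hd | hd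
    · refine ⟨Polynomial.X, Polynomial.monic_X, ?_⟩
      rw [Polynomial.eval₂_X]
      have h1 := Polynomial.eq_one_of_monic_natDegree_zero hp hd
      rw [h1, map_one, mul_one] at hu0
      have hu0' : algebraMap S' (S' ⊗[A] Q) u = 0 := hu0
      rw [hu0', zero_mul]
    · refine ⟨p.scaleRoots u, (Polynomial.monic_scaleRoots_iff u).mpr hp, ?_⟩
      rw [Polynomial.scaleRoots_eval₂_mul]
      obtain ⟨k, hk⟩ : ∃ k, p.natDegree = k + 1 := ⟨p.natDegree - 1, by omega⟩
      rw [hk, pow_succ, mul_assoc, ← Polynomial.aeval_def]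
      rw [show algebraMap S' (S' ⊗[A] Q) u * Polynomial.aeval y p = 0 from hu0, mul_zero]
  obtain ⟨z, hz⟩ := (TensorProduct.toIntegralClosure_bijective_of_smooth (R := A) (S := S') (B := Q)).2
    ⟨_, hint⟩
  have hz' : Algebra.TensorProduct.map (AlgHom.id S' S') (integralClosure A Q).val z =
      algebraMap S' (S' ⊗[A] Q) u * y := congrArg Subtype.val hz
  let ι := Algebra.TensorProduct.map (AlgHom.id B B) (integralClosure A Q).val
  have hcomm : ∀ w, algebraMap (S' ⊗[A] Q) (B ⊗[A] Q)
      (Algebra.TensorProduct.map (AlgHom.id S' S') (integralClosure A Q).val w) =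
      ι (Algebra.TensorProduct.map (IsScalarTower.toAlgHom A S' B) (AlgHom.id A (integralClosure A Q)) w) := fun w => by
    induction w using TensorProduct.induction_on with
    | zero => simp
    | tmul a b => simp [ι, RingHom.algebraMap_toAlgebra]
    | add a b ha hb => simp only [map_add, ha, hb]
  have key : algebraMap S' (B ⊗[A] Q) (u * n * m) * x ∈ ι.range := by
    refine ⟨Algebra.TensorProduct.map (IsScalarTower.toAlgHom A S' B) (AlgHom.id A (integralClosure A Q)) z, ?_⟩
    show ι _ = _
    rw [← hcomm, hz', map_mul, ← IsScalarTower.algebraMap_apply, ← hys, Algebra.smul_def]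
    simp only [map_mul]
    ring
  obtain ⟨r, hr⟩ := (IsLocalization.map_units B (⟨u * n * m, mul_mem (mul_mem hu hn) hm⟩ : M)).exists_left_inv
  have : x = algebraMap B (B ⊗[A] Q) r * (algebraMap S' (B ⊗[A] Q) (u * n * m) * x) := by
    rw [← mul_assoc, IsScalarTower.algebraMap_apply S' B (B ⊗[A] Q), ← map_mul, hr, map_one, one_mul]
  rw [this]
  exact mul_mem (Subalgebra.algebraMap_mem _ r) key

omit [IsArtinianRing Q] [IsReduced Q] in
/-- The kernel of `B → B ⊗ Q` is nilpotent when `red A → Q` is injective. -/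
theorem ker_le_nilradical (g : CAlg2.red A →ₐ[A] Q) (hg : Function.Injective g) {b : B}
    (hb : b ⊗ₜ[A] (1 : Q) = 0) : IsNilpotent b := by
  haveI := flat_of_smooth_localization (A := A) (B := B) M
  let e := Algebra.TensorProduct.quotIdealMapEquivTensorQuot B (nilradical A)
  have h1 : b ⊗ₜ[A] (1 : CAlg2.red A) = 0 := by
    refine Module.Flat.lTensor_preserves_injective_linearMap (M := B) g.toLinearMap hg ?_
    rw [map_zero, LinearMap.lTensor_tmul]
    show b ⊗ₜ[A] g 1 = 0
    rw [map_one]; exact hb
  have h2 : e (Ideal.Quotient.mk _ b) = 0 := by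
    rw [show Ideal.Quotient.mk _ b = algebraMap B (B ⧸ (nilradical A).map (algebraMap A B)) b from rfl, e.commutes]
    exact h1
  rw [map_eq_zero_iff _ e.injective, Ideal.Quotient.eq_zero_iff_mem] at h2
  have hle : (nilradical A).map (algebraMap A B) ≤ nilradical B :=
    Ideal.map_le_iff_le_comap.mpr fun a ha => IsNilpotent.map ha (algebraMap A B)
  exact mem_nilradical.mp (hle h2)

variable [IsLocalRing A]

omit [IsArtinianRing Q] [IsReduced Q] [IsLocalRing A] in
/-- The comparison of integral closures in the fraction rings of the reductions. -/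
theorem exists_normalization_equiv (hfin : (minimalPrimes A).Finite) :
    (minimalPrimes B).Finite ∧
      Nonempty (B ⊗[A] integralClosure A (FractionRing (CAlg2.red A)) ≃ₐ[B]
        integralClosure B (FractionRing (CAlg2.red B))) := by
  haveI := H9Hens.isReduced_red A
  let Q := FractionRing (CAlg2.red A)
  let E := FractionRing (CAlg2.red B)
  haveI : IsArtinianRing Q := H9Hens.fractionRing_red_isArtinianRing A hfin
  haveI : IsReduced Q := inferInstance
  haveI := flat_of_smooth_localization (A := A) (B := B) M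
  obtain ⟨hnor, hnoe, hint⟩ := normal_tensor (A := A) (B := B) (Q := Q) M
  haveI := hnoe
  haveI := H05EGA4.isReduced_of_isNormalRing hnor
  let D := B ⊗[A] Q
  have hker : ∀ b : B, algebraMap B D b = 0 → IsNilpotent b := fun b hb =>
    ker_le_nilradical M (IsScalarTower.toAlgHom A (CAlg2.red A) Q) (IsFractionRing.injective _ Q) hb
  refine ⟨?_, ?_⟩
  · refine ((minimalPrimes.finite_of_isNoetherianRing D).image (Ideal.comap (algebraMap B D))).subset ?_
    intro P hP
    haveI := hP.1.1
    have hP' : P ∈ (Ideal.comap (algebraMap B D) ⊥).minimalPrimes := by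
      refine ⟨⟨hP.1.1, fun b hb => ?_⟩, fun P' hP' h => hP.2 ⟨hP'.1, bot_le⟩ h⟩
      obtain ⟨k, hk⟩ := hker b hb
      exact hP.1.1.mem_of_pow_mem k (hk ▸ P.zero_mem)
    obtain ⟨P', hP'p, -, hP'c⟩ := Ideal.exists_comap_eq_of_mem_minimalPrimes (algebraMap B D) P hP'
    obtain ⟨P₀, hP₀, hle⟩ := Ideal.exists_minimalPrimes_le (I := (⊥ : Ideal D)) (J := P') bot_le
    haveI := hP₀.1.1
    have h := hP'c ▸ Ideal.comap_mono (f := algebraMap B D) hle
    exact ⟨P₀, hP₀, le_antisymm h (hP.2 ⟨inferInstance, bot_le⟩ h)⟩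
  · let q : CAlg2.red A →+* CAlg2.red B := Ideal.quotientMap _ (algebraMap A B)
      fun a ha => IsNilpotent.map ha (algebraMap A B)
    have hu : ∀ s : nonZeroDivisors (CAlg2.red A), IsUnit (((algebraMap (CAlg2.red B) E).comp q) s) := fun s => by
      obtain ⟨a, ha⟩ := Ideal.Quotient.mk_surjective (s : CAlg2.red A)
      refine IsLocalization.map_units E (⟨q s, mem_nonZeroDivisors_iff_right.mpr fun d hd => ?_⟩ :
        nonZeroDivisors (CAlg2.red B))
      obtain ⟨b, rfl⟩ := Ideal.Quotient.mk_surjective d
      rw [← ha, Ideal.quotientMap_mk, ← map_mul, Ideal.Quotient.eq_zero_iff_mem] at hd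
      have hua : IsUnit (algebraMap A D a) := by
        rw [← (Algebra.TensorProduct.includeRight : Q →ₐ[A] D).commutes]
        refine IsUnit.map _ ?_
        rw [IsScalarTower.algebraMap_apply A (CAlg2.red A) Q, Ideal.Quotient.algebraMap_eq, ha]
        exact IsLocalization.map_units Q s
      have h0 : algebraMap B D (b * algebraMap A B a) = 0 := IsReduced.eq_zero _ ((mem_nilradical.mp hd).map _)
      rw [map_mul, ← IsScalarTower.algebraMap_apply, hua.mul_left_eq_zero] at h0
      exact Ideal.Quotient.eq_zero_iff_mem.mpr (hker b h0)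
    let g : Q →ₐ[A] E :=
      { (IsLocalization.lift hu : Q →+* E) with
        commutes' := fun a => by
          show IsLocalization.lift hu (algebraMap A Q a) = _
          rw [IsScalarTower.algebraMap_apply A (CAlg2.red A) Q, IsLocalization.lift_eq,
            IsScalarTower.algebraMap_apply A (CAlg2.red B) E]
          rfl }
    let ψ : D →ₐ[B] E := Algebra.TensorProduct.lift (Algebra.ofId B E) g fun _ _ => Commute.all _ _
    have hψ : Function.Injective ψ := (injective_iff_map_eq_zero ψ).mpr fun d hd => by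
      obtain ⟨s, b, hs, hsd⟩ := H9Hens.exists_mul_eq_includeLeft (H9Hens.fractionRing_red_exists A) (H := B) d
      have hb0 : algebraMap B E b = 0 := by
        rw [← ψ.commutes, show algebraMap B D b = b ⊗ₜ 1 from rfl, ← hsd, map_mul, hd, mul_zero]
      rw [IsScalarTower.algebraMap_apply B (CAlg2.red B) E, map_eq_zero_iff _ (IsFractionRing.injective _ E),
        Ideal.Quotient.algebraMap_eq, Ideal.Quotient.eq_zero_iff_mem] at hb0
      have h1 : algebraMap B D b = 0 := IsReduced.eq_zero _ ((mem_nilradical.mp hb0).map _)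
      rw [show algebraMap B D b = b ⊗ₜ 1 from rfl, ← hsd] at h1
      refine (IsUnit.mul_right_eq_zero ?_).mp h1
      rw [← (Algebra.TensorProduct.includeRight : Q →ₐ[A] D).commutes]
      exact hs.map _
    let ι : B ⊗[A] integralClosure A Q →ₐ[B] D :=
      Algebra.TensorProduct.map (AlgHom.id B B) (integralClosure A Q).val
    have hι : Function.Injective ι :=
      Module.Flat.lTensor_preserves_injective_linearMap (M := B) (integralClosure A Q).val.toLinearMap
        Subtype.val_injective
    haveI : Algebra.IsIntegral B (B ⊗[A] integralClosure A Q) := inferInstance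
    have hmem : ∀ x, (ψ.comp ι) x ∈ integralClosure B E := fun x =>
      (Algebra.IsIntegral.isIntegral (R := B) x).map (ψ.comp ι)
    refine ⟨AlgEquiv.ofBijective ((ψ.comp ι).codRestrict _ hmem) ⟨fun x y h => hι (hψ (congrArg Subtype.val h)),
      fun ⟨x, hx⟩ => ?_⟩⟩
    letI : Algebra D E := ψ.toRingHom.toAlgebra
    haveI : IsScalarTower B D E := IsScalarTower.of_algebraMap_eq fun b => (ψ.commutes b).symm
    obtain ⟨c, s, rfl⟩ := IsLocalization.exists_mk'_eq (nonZeroDivisors (CAlg2.red B)) x
    obtain ⟨b, hb⟩ := Ideal.Quotient.mk_surjective c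
    obtain ⟨t, ht⟩ := Ideal.Quotient.mk_surjective (s : CAlg2.red B)
    have hE : ∀ r : B, algebraMap D E (algebraMap B D r) = algebraMap (CAlg2.red B) E (Ideal.Quotient.mk _ r) :=
      fun r => ψ.commutes r
    have hfrac : ∃ p t : D, IsUnit (algebraMap D E t) ∧
        algebraMap D E t * IsLocalization.mk' E c s = algebraMap D E p :=
      ⟨algebraMap B D b, algebraMap B D t, by rw [hE, ht]; exact IsLocalization.map_units E s,
        by rw [hE, hE, hb, ht, IsLocalization.mk'_spec']⟩
    obtain ⟨d, hd⟩ := mem_range_of_isIntegral hnor hψ _ hfrac hx.tower_top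
    have hdint : IsIntegral B d := (isIntegral_algHom_iff ψ hψ).mp (by
      rw [show ψ d = _ from hd]; exact hx)
    obtain ⟨w, rfl⟩ := hint d hdint
    exact ⟨w, Subtype.ext hd⟩

variable [IsLocalRing B] [IsLocalHom (algebraMap A B)]

omit [IsArtinianRing Q] [IsReduced Q] in
/-- An essentially smooth local homomorphism keeps the number of geometric branches. -/
theorem numGeomBranches_eq : Brnch.numGeomBranches A = Brnch.numGeomBranches B := by
  haveI := flat_of_smooth_localization (A := A) (B := B) M
  haveI : Module.FaithfullyFlat A B := Module.FaithfullyFlat.of_flat_of_isLocalHom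
  unfold Brnch.numGeomBranches
  by_cases hfin : (minimalPrimes A).Finite
  · obtain ⟨hfinB, ⟨e⟩⟩ := exists_normalization_equiv (A := A) (B := B) M hfin
    rw [if_pos hfin, if_pos hfinB]
    obtain ⟨eA⟩ := H9Hens.nonempty_sigma_emb_equiv A
    obtain ⟨eB⟩ := H9Hens.nonempty_sigma_emb_equiv B
    obtain ⟨nA⟩ := H9Hens.nonempty_integralClosure_algEquiv_normRed A
    obtain ⟨nB⟩ := H9Hens.nonempty_integralClosure_algEquiv_normRed B
    haveI : Algebra.IsIntegral A (CAlg2.normRed A) := Algebra.IsIntegral.of_surjective nA.toAlgHom nA.surjective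
    letI : Algebra (ResidueField A) (AlgebraicClosure (ResidueField B)) :=
      ((algebraMap (ResidueField B) (AlgebraicClosure (ResidueField B))).comp (ResidueField.map (algebraMap A B))).toAlgebra
    let j₀ : AlgebraicClosure (ResidueField A) →ₐ[ResidueField A] AlgebraicClosure (ResidueField B) :=
      IsAlgClosed.lift
    obtain ⟨e'⟩ := nonempty_algHom_equiv_baseChange
      ((Algebra.TensorProduct.congr (AlgEquiv.refl : B ≃ₐ[B] B) nA.symm).trans (e.trans nB))
      (Brnch.toClosure A) (Brnch.toClosure B) j₀.toRingHom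
      (RingHom.ext fun a => j₀.commutes (residue A a))
    exact ENat.card_congr ((eA.trans e').trans eB.symm)
  · rw [if_neg hfin, if_neg]
    intro hB
    have h := H9Hens.card_minimalPrimes_eq_top (H := B) hfin
    haveI := hB.to_subtype
    rw [ENat.card_eq_coe_natCard] at h
    exact ENat.coe_ne_top _ h

end Groth.Agent.H1Branch
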