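import Groth.Agent.H1Branch.Smooth

/-!
# Branches with purely inseparable residue extensions
-/

set_option autoImplicit false
set_option linter.style.haveILetI false
universe u

namespace Groth.Agent.H1Branch

open TensorProduct IsLocalRing

variable {A B : Type u} [CommRing A] [IsLocalRing A] [CommRing B] [IsLocalRing B] [Algebra A B]
  [IsLocalHom (algebraMap A B)] {P : Type u} [CommRing P] [Algebra A P] [Algebra.IsIntegral A P]

/-- With a purely inseparable residue extension the maximal ideals of an integral algebra do not change. -/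
theorem nonempty_maximalSpectrum_tensor_equiv_of_pow (q : ℕ) [ExpChar (ResidueField B) q]
    (hm : ∀ x : B, ∃ n : ℕ, ∃ a : A, x ^ q ^ n - algebraMap A B a ∈ maximalIdeal B) :
    Nonempty (MaximalSpectrum (B ⊗[A] P) ≃ MaximalSpectrum P) := by
  let i : P →ₐ[A] B ⊗[A] P := Algebra.TensorProduct.includeRight
  haveI : Algebra.IsIntegral B (B ⊗[A] P) := inferInstance
  have hlie : ∀ M : MaximalSpectrum (B ⊗[A] P),
      M.asIdeal.comap (algebraMap B (B ⊗[A] P)) = maximalIdeal B := fun M =>
    (isMaximal_iff B).mp (Ideal.isMaximal_comap_of_isIntegral_of_isMaximal M.asIdeal)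
  have hcm : (maximalIdeal B).comap (algebraMap A B) = maximalIdeal A :=
    ((local_hom_TFAE (algebraMap A B)).out (a := IsLocalHom (algebraMap A B)) 0 4).mp ‹_›
  have hmax : ∀ M : MaximalSpectrum (B ⊗[A] P), (M.asIdeal.comap i.toRingHom).IsMaximal := fun M => by
    refine Ideal.isMaximal_of_isIntegral_of_isMaximal_comap (R := A) _ ?_
    rw [Ideal.comap_comap, AlgHom.toRingHom_eq_coe, AlgHom.comp_algebraMap,
      IsScalarTower.algebraMap_eq A B (B ⊗[A] P), ← Ideal.comap_comap, hlie, hcm]
    infer_instance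
  have key : ∀ t : B ⊗[A] P, ∃ n : ℕ, ∃ p : P, ∀ M : MaximalSpectrum (B ⊗[A] P),
      Ideal.Quotient.mk M.asIdeal t ^ q ^ n = Ideal.Quotient.mk M.asIdeal (i p) := by
    intro t
    induction t using TensorProduct.induction_on with
    | zero => exact ⟨0, 0, fun M => by simp⟩
    | tmul x p =>
      obtain ⟨n, a, ha⟩ := hm x
      refine ⟨n, a • p ^ q ^ n, fun M => ?_⟩
      rw [← map_pow, Algebra.TensorProduct.tmul_pow, Ideal.Quotient.eq]
      have h1 : (x ^ q ^ n - algebraMap A B a) ⊗ₜ[A] (1 : P) ∈ M.asIdeal := (hlie M).ge ha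
      have h2 : (x ^ q ^ n) ⊗ₜ[A] (p ^ q ^ n) - i (a • p ^ q ^ n) =
          (x ^ q ^ n - algebraMap A B a) ⊗ₜ[A] (1 : P) * ((1 : B) ⊗ₜ[A] (p ^ q ^ n)) := by
        show _ - (1 : B) ⊗ₜ[A] _ = _
        rw [← TensorProduct.smul_tmul, ← TensorProduct.sub_tmul, Algebra.TensorProduct.tmul_mul_tmul,
          mul_one, one_mul, Algebra.algebraMap_eq_smul_one]
      rw [h2]
      exact Ideal.mul_mem_right _ _ h1
    | add t t' ht ht' =>
      obtain ⟨n, p, hp⟩ := ht
      obtain ⟨n', p', hp'⟩ := ht'
      refine ⟨n + n', p ^ q ^ n' + p' ^ q ^ n, fun M => ?_⟩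
      haveI := M.isMaximal
      letI := Ideal.Quotient.field M.asIdeal
      let f : ResidueField B →+* (B ⊗[A] P) ⧸ M.asIdeal :=
        Ideal.Quotient.lift (maximalIdeal B) ((Ideal.Quotient.mk M.asIdeal).comp (algebraMap B _))
          fun b hb => Ideal.Quotient.eq_zero_iff_mem.mpr ((hlie M).ge hb)
      haveI : ExpChar ((B ⊗[A] P) ⧸ M.asIdeal) q := expChar_of_injective_ringHom f.injective q
      simp only [map_add, map_pow, ← hp M, ← hp' M, ← pow_mul, ← pow_add, add_pow_expChar_pow]
      rw [Nat.add_comm n' n]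
  refine ⟨Equiv.ofBijective (fun M => ⟨_, hmax M⟩) ⟨fun M M' h => ?_, fun N => ?_⟩⟩
  · have h' : M.asIdeal.comap i.toRingHom = M'.asIdeal.comap i.toRingHom :=
      congrArg MaximalSpectrum.asIdeal h
    haveI := M.isMaximal.isPrime
    haveI := M'.isMaximal.isPrime
    refine MaximalSpectrum.ext (Ideal.ext fun t => ?_)
    obtain ⟨n, p, hp⟩ := key t
    have hq : q ^ n ≠ 0 := pow_ne_zero _ (expChar_pos (ResidueField B) q).ne'
    have hiff : ∀ N : MaximalSpectrum (B ⊗[A] P), t ∈ N.asIdeal ↔ i p ∈ N.asIdeal := fun N => by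
      haveI := N.isMaximal.isPrime
      rw [← Ideal.Quotient.eq_zero_iff_mem, ← Ideal.Quotient.eq_zero_iff_mem, ← hp N, pow_eq_zero_iff hq]
    rw [hiff M, hiff M']
    exact Ideal.ext_iff.mp h' p
  · haveI := N.isMaximal
    letI := Ideal.Quotient.field N.asIdeal
    let Nf := P ⧸ N.asIdeal
    have hker : RingHom.ker (algebraMap A Nf) = maximalIdeal A := (isMaximal_iff A).mp (by
      rw [IsScalarTower.algebraMap_eq A P Nf, ← RingHom.comap_ker, Ideal.Quotient.algebraMap_eq,
        Ideal.mk_ker]
      exact Ideal.isMaximal_comap_of_isIntegral_of_isMaximal N.asIdeal)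
    letI : Algebra (ResidueField A) Nf := (Ideal.Quotient.lift (maximalIdeal A) (algebraMap A Nf)
      fun a ha => RingHom.mem_ker.mp (hker ▸ ha)).toAlgebra
    haveI : IsScalarTower A (ResidueField A) Nf := IsScalarTower.of_algebraMap_eq fun _ => rfl
    haveI : Algebra.IsIntegral A Nf := inferInstance
    haveI : Algebra.IsIntegral (ResidueField A) Nf := Algebra.IsIntegral.tower_top (R := A)
    haveI : Algebra.IsAlgebraic (ResidueField A) Nf := Algebra.IsIntegral.isAlgebraic
    obtain ⟨K, fK, hK, ψ, g, hψ, hg⟩ : ∃ (K : Type u) (_ : Field K) (_ : IsAlgClosed K) (ψ : B →+* K)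
        (g : Nf →+* K), RingHom.ker ψ = maximalIdeal B ∧ g.comp (algebraMap A Nf) = ψ.comp (algebraMap A B) := by
      let κ : ResidueField A →+* AlgebraicClosure (ResidueField B) :=
        (algebraMap (ResidueField B) (AlgebraicClosure (ResidueField B))).comp (ResidueField.map (algebraMap A B))
      letI : Algebra (ResidueField A) (AlgebraicClosure (ResidueField B)) := κ.toAlgebra
      let g₀ : Nf →ₐ[ResidueField A] AlgebraicClosure (ResidueField B) := IsAlgClosed.lift
      refine ⟨_, inferInstance, inferInstance, (algebraMap (ResidueField B) _).comp (residue B), g₀.toRingHom,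
        ?_, RingHom.ext fun a => g₀.commutes (residue A a)⟩
      ext x
      rw [RingHom.mem_ker, RingHom.comp_apply, map_eq_zero, residue_eq_zero_iff]
    letI : Algebra A K := (ψ.comp (algebraMap A B)).toAlgebra
    let ψ' : B →ₐ[A] K := { ψ with commutes' := fun _ => rfl }
    let g' : P →ₐ[A] K := { g.comp (Ideal.Quotient.mk N.asIdeal) with commutes' := fun a => RingHom.congr_fun hg a }
    let F := Algebra.TensorProduct.lift ψ' g' fun _ _ => Commute.all _ _
    haveI : (RingHom.ker F.toRingHom).IsPrime := RingHom.ker_isPrime _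
    have hFmax : (RingHom.ker F.toRingHom).IsMaximal := by
      refine Ideal.isMaximal_of_isIntegral_of_isMaximal_comap (R := B) _ ?_
      have : (RingHom.ker F.toRingHom).comap (algebraMap B (B ⊗[A] P)) = maximalIdeal B := by
        rw [← hψ, RingHom.comap_ker]
        congr 1
        ext x
        simp [F, ψ']
      rw [this]
      infer_instance
    refine ⟨⟨_, hFmax⟩, MaximalSpectrum.ext ?_⟩
    show (RingHom.ker F.toRingHom).comap i.toRingHom = N.asIdeal
    rw [RingHom.comap_ker]
    ext p
    rw [RingHom.mem_ker]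
    show F ((1 : B) ⊗ₜ[A] p) = 0 ↔ _
    rw [Algebra.TensorProduct.lift_tmul, map_one, one_mul]
    show g (Ideal.Quotient.mk N.asIdeal p) = 0 ↔ _
    rw [map_eq_zero, Ideal.Quotient.eq_zero_iff_mem]

omit [Algebra.IsIntegral A P] in
/-- An essentially smooth local homomorphism with purely inseparable residue extension keeps the number of branches. -/
theorem numBranches_eq {S' : Type u} [CommRing S'] [Algebra A S'] [Algebra.Smooth A S'] [Algebra S' B]
    [IsScalarTower A S' B] (M : Submonoid S') [IsLocalization M B] (q : ℕ) [ExpChar (ResidueField B) q]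
    (hm : ∀ x : B, ∃ n : ℕ, ∃ a : A, x ^ q ^ n - algebraMap A B a ∈ maximalIdeal B) :
    Brnch.numBranches A = Brnch.numBranches B := by
  haveI := flat_of_smooth_localization (A := A) (B := B) M
  haveI : Module.FaithfullyFlat A B := Module.FaithfullyFlat.of_flat_of_isLocalHom
  unfold Brnch.numBranches
  by_cases hfin : (minimalPrimes A).Finite
  · obtain ⟨hfinB, ⟨e⟩⟩ := exists_normalization_equiv (A := A) (B := B) M hfin
    rw [if_pos hfin, if_pos hfinB]
    obtain ⟨nA⟩ := H9Hens.nonempty_integralClosure_algEquiv_normRed A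
    obtain ⟨nB⟩ := H9Hens.nonempty_integralClosure_algEquiv_normRed B
    haveI : Algebra.IsIntegral A (CAlg2.normRed A) := Algebra.IsIntegral.of_surjective nA.toAlgHom nA.surjective
    obtain ⟨e₁⟩ := nonempty_maximalSpectrum_tensor_equiv_of_pow (P := CAlg2.normRed A) q hm
    obtain ⟨e₂⟩ := H9Hens.nonempty_maximalSpectrum_congr
      ((Algebra.TensorProduct.congr (AlgEquiv.refl : B ≃ₐ[B] B) nA.symm).trans (e.trans nB)).toRingEquiv
    exact ENat.card_congr (e₁.symm.trans e₂)
  · rw [if_neg hfin, if_neg]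
    intro hB
    have h := H9Hens.card_minimalPrimes_eq_top (H := B) hfin
    haveI := hB.to_subtype
    rw [ENat.card_eq_coe_natCard] at h
    exact ENat.coe_ne_top _ h

end Groth.Agent.H1Branch
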